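import Cfsg.Agent.Lib.NoncyclicSelfCent.Centralizer
import Cfsg.Agent.Lib.Transfer.Thompson
import Cfsg.Agent.S0508

/-!
A simple group in which every non-cyclic subgroup contains its centraliser is `PSL(2, q)`, `q` odd.
-/

set_option autoImplicit false
set_option linter.style.haveILetI false

namespace CfsgLib.NCSC

open CfsgLib.Invol

variable {G : Type*} [Group G] [Finite G] [IsSimpleGroup G]

theorem exists_central_invol (hna : ¬ IsMulCommutative G) (S : Sylow 2 G) :
    ∃ z ∈ (S : Subgroup G), orderOf z = 2 ∧ ∀ x ∈ (S : Subgroup G), x * z = z * x := by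
  haveI := Fact.mk Nat.prime_two
  haveI : Nontrivial (S : Subgroup G) :=
    (Subgroup.nontrivial_iff_ne_bot _).mpr (S.ne_bot_of_dvd_card (two_dvd hna))
  haveI := S.2.center_nontrivial
  obtain ⟨c, hc⟩ := exists_prime_orderOf_dvd_card' (G := Subgroup.center (S : Subgroup G)) 2 (by
    obtain ⟨k, hk⟩ := IsPGroup.iff_card.mp (S.2.to_subgroup (Subgroup.center (S : Subgroup G)))
    rcases k with _ | k
    · rw [pow_zero] at hk
      exact absurd hk (Nat.ne_of_gt Finite.one_lt_card)
    · rw [hk]; exact dvd_pow_self 2 (by omega))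
  exact ⟨_, (c : (S : Subgroup G)).2, by rw [Subgroup.orderOf_coe, Subgroup.orderOf_coe, hc],
    fun x hx => congrArg Subtype.val (Subgroup.mem_center_iff.mp c.2 ⟨x, hx⟩)⟩

theorem SC.cent_eq_sylow (h : SC G) (hna : ¬ IsMulCommutative G) (S : Sylow 2 G) {z : G}
    (hz : orderOf z = 2) (hc : ∀ x ∈ (S : Subgroup G), x * z = z * x) :
    Subgroup.centralizer ({z} : Set G) = (S : Subgroup G) :=
  S.3 (h.two_group hna hz) fun x hx => Subgroup.mem_centralizer_singleton_iff.mpr (hc x hx)

/-- A semidihedral Sylow 2-subgroup is impossible. -/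
theorem SC.no_sd (h : SC G) (hna : ¬ IsMulCommutative G) (S : Sylow 2 G) {n : ℕ}
    {a b : (S : Subgroup G)} (hsd : SD n a b) : False := by
  classical
  haveI := Fact.mk Nat.prime_two
  have hn := hsd.four_le
  obtain ⟨u, hu⟩ : ∃ u : ℕ, 2 ^ (n - 2) = 2 * u := ⟨2 ^ (n - 3), by
    rw [← pow_succ']; congr 1; omega⟩
  have hu1 : 2 ≤ u := by
    have : 4 ≤ 2 ^ (n - 2) := by
      calc 4 = 2 ^ 2 := rfl
        _ ≤ _ := Nat.pow_le_pow_right two_pos (by omega)
    omega
  have hoa : orderOf a = 4 * u := by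
    rw [hsd.oa, show n - 1 = n - 2 + 1 by omega, pow_succ, hu]; ring
  have hbinv : b⁻¹ = b := inv_of_orderOf_two hsd.ob
  have hbb : b * b = 1 := mul_self_of_orderOf_two hsd.ob
  have hconj : ∀ i : ℤ, b * a ^ i = a ^ ((2 * (u : ℤ) - 1) * i) * b := by
    intro i
    have e : b * a ^ i * b⁻¹ = a ^ ((2 * (u : ℤ) - 1) * i) := by
      rw [← conj_zpow, hsd.conj, hu, zpow_mul, ← zpow_natCast, Nat.cast_sub (by omega)]
      push_cast
      rfl
    rw [← e, inv_mul_cancel_right]
  -- the dihedral subgroup of index two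
  let M : Subgroup (S : Subgroup G) :=
    { carrier := {x | ∃ i : ℤ, x = a ^ (2 * i) ∨ x = a ^ (2 * i) * b}
      one_mem' := ⟨0, Or.inl (by simp)⟩
      mul_mem' := by
        rintro x y ⟨i, rfl | rfl⟩ ⟨j, rfl | rfl⟩
        · exact ⟨i + j, Or.inl (by rw [← zpow_add]; ring_nf)⟩
        · exact ⟨i + j, Or.inr (by rw [← mul_assoc, ← zpow_add]; ring_nf)⟩
        · refine ⟨i + (2 * (u : ℤ) - 1) * j, Or.inr ?_⟩
          rw [mul_assoc, hconj, ← mul_assoc, ← zpow_add]; ring_nf
        · refine ⟨i + (2 * (u : ℤ) - 1) * j, Or.inl ?_⟩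
          rw [mul_assoc, ← mul_assoc b, hconj, mul_assoc, hbb, mul_one, ← zpow_add]; ring_nf
      inv_mem' := by
        rintro x ⟨i, rfl | rfl⟩
        · exact ⟨-i, Or.inl (by rw [← zpow_neg]; ring_nf)⟩
        · refine ⟨(2 * (u : ℤ) - 1) * (-i), Or.inr ?_⟩
          rw [mul_inv_rev, hbinv, ← zpow_neg, hconj]; ring_nf }
  have hMmem : ∀ x, x ∈ M ↔ ∃ i : ℤ, x = a ^ (2 * i) ∨ x = a ^ (2 * i) * b := fun x => Iff.rfl
  have hpar : ∀ i : ℤ, a ^ i ∈ M ↔ (2 : ℤ) ∣ i := by
    intro i
    refine ⟨?_, fun ⟨j, hj⟩ => ⟨j, Or.inl (by rw [hj])⟩⟩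
    rintro ⟨j, hj | hj⟩
    · rw [zpow_eq_zpow_iff_modEq, Int.modEq_iff_dvd, hoa] at hj
      obtain ⟨c, hc⟩ := hj
      push_cast at hc
      exact ⟨j - 2 * u * c, by linear_combination -hc⟩
    · refine absurd ?_ hsd.not_mem
      have : b = a ^ (-(2 * j)) * a ^ i := by rw [hj, ← mul_assoc, ← zpow_add]; simp
      rw [this, ← zpow_add]
      exact zpow_mem (Subgroup.mem_zpowers a) _
  have hparb : ∀ i : ℤ, a ^ i * b ∈ M ↔ (2 : ℤ) ∣ i := fun i => by
    rw [M.mul_mem_cancel_right (⟨0, Or.inr (by simp)⟩ : b ∈ M), hpar]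
  have hM2 : M.index = 2 := by
    rw [Subgroup.index_eq_two_iff]
    refine ⟨a, fun x => ?_⟩
    rcases hsd.cases x with ⟨i, rfl⟩ | ⟨i, rfl⟩
    · rw [← zpow_add_one, hpar, hpar]
      rcases Int.emod_two_eq_zero_or_one i with h2 | h2
      · exact Or.inr ⟨by omega, by omega⟩
      · exact Or.inl ⟨by omega, by omega⟩
    · rw [mul_assoc, ← zpow_one a, ← zpow_mul, one_mul, hconj, ← mul_assoc, ← zpow_add, hparb, hparb]
      rcases Int.emod_two_eq_zero_or_one i with h2 | h2
      · exact Or.inr ⟨by omega, by omega⟩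
      · exact Or.inl ⟨by omega, by omega⟩
  -- the central involution
  set z₀ : (S : Subgroup G) := a ^ (2 * (u : ℤ)) with hz₀
  have hz2 : z₀ * z₀ = 1 := by
    rw [hz₀, ← zpow_add, ← orderOf_dvd_iff_zpow_eq_one, hoa]
    exact ⟨1, by push_cast; ring⟩
  have hz1 : z₀ ≠ 1 := by
    intro e
    rw [hz₀, ← orderOf_dvd_iff_zpow_eq_one, hoa, show (2 : ℤ) * u = ((2 * u : ℕ) : ℤ) by push_cast; rfl,
      Int.natCast_dvd_natCast] at e
    have := Nat.le_of_dvd (by omega) e
    omega
  have hzc : ∀ x : (S : Subgroup G), x * z₀ = z₀ * x := by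
    have hb : b * z₀ = z₀ * b := by
      rw [hz₀, hconj]
      congr 1
      rw [zpow_eq_zpow_iff_modEq, Int.modEq_iff_dvd, hoa]
      exact ⟨1 - u, by push_cast; ring⟩
    intro x
    rcases hsd.cases x with ⟨i, rfl⟩ | ⟨i, rfl⟩
    · exact ((Commute.refl a).zpow_zpow i _).eq
    · rw [mul_assoc, hb, ← mul_assoc, ← mul_assoc, hz₀, ((Commute.refl a).zpow_zpow i _).eq]
  have hz : orderOf (z₀ : G) = 2 := by
    rw [Subgroup.orderOf_coe]; exact orderOf_two_of_mul_self hz2 hz1
  have hC : Subgroup.centralizer ({(z₀ : G)} : Set G) = (S : Subgroup G) :=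
    h.cent_eq_sylow hna S hz fun x hx => congrArg Subtype.val (hzc ⟨x, hx⟩)
  -- involutions lie in `M`, squares of elements of order four outside are `z₀`
  have hinvM : ∀ w : (S : Subgroup G), w * w = 1 → w ∈ M := by
    intro w hw
    rcases hsd.cases w with ⟨i, rfl⟩ | ⟨i, rfl⟩
    · rw [← zpow_add, ← orderOf_dvd_iff_zpow_eq_one, hoa] at hw
      rw [hpar]
      obtain ⟨c, hc⟩ := hw
      push_cast at hc
      exact ⟨(u : ℤ) * c, mul_left_cancel₀ (show (2 : ℤ) ≠ 0 by norm_num) (by linear_combination hc)⟩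
    · rw [hsd.sq_outside, ← orderOf_dvd_iff_zpow_eq_one, hoa] at hw
      rw [hparb]
      obtain ⟨c, hc⟩ := hw
      have hu' : (2 : ℤ) ^ (n - 2) = 2 * u := by exact_mod_cast hu
      rw [hu'] at hc
      push_cast at hc
      exact ⟨c, mul_left_cancel₀ (show (2 * u : ℤ) ≠ 0 by positivity) (by linear_combination hc)⟩
  set x : (S : Subgroup G) := a * b with hx
  have hxM : x ∉ M := by
    rw [hx, ← zpow_one a, hparb]; decide
  have hxx : x * x = z₀ := by
    rw [hx, ← zpow_one a, hsd.sq_outside, mul_one, hz₀]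
    exact congrArg (a ^ ·) (by exact_mod_cast hu)
  have hx4 : x ^ 4 = 1 := by
    rw [show 4 = 2 + 2 from rfl, pow_add, pow_two, hxx, hz2]
  let φ : (S : Subgroup G) →* ℤˣ := CfsgLib.Transfer.sgnHom M hM2
  have hφ : ∀ w, φ w = 1 ↔ w ∈ M := fun w => CfsgLib.Transfer.sgnHom_eq_one_iff
  have hφne : ∀ w, w ∉ M → φ w = -1 := fun w hw =>
    (Int.units_eq_one_or _).resolve_left fun e => hw ((hφ w).mp e)
  have key : ∀ (k : ℕ) (g : G) (hm : g⁻¹ * (x : G) ^ k * g ∈ (S : Subgroup G)),
      φ ⟨_, hm⟩ = φ ⟨(x : G), x.2⟩ ^ k := by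
    intro k g hm
    rw [show (⟨(x : G), x.2⟩ : (S : Subgroup G)) = x from rfl, hφne x hxM]
    rcases Nat.even_or_odd k with hk | hk
    · rw [hk.neg_one_pow, hφ]
      refine hinvM _ (Subtype.ext ?_)
      obtain ⟨c, rfl⟩ := hk
      show g⁻¹ * (x : G) ^ (c + c) * g * (g⁻¹ * (x : G) ^ (c + c) * g) = 1
      have : (x : G) ^ 4 = 1 := by rw [← Subgroup.coe_pow, hx4]; rfl
      calc _ = g⁻¹ * ((x : G) ^ (c + c) * (x : G) ^ (c + c)) * g := by group
        _ = g⁻¹ * ((x : G) ^ 4) ^ c * g := by rw [← pow_add, ← pow_mul]; ring_nf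
        _ = 1 := by rw [this]; group
    · rw [hk.neg_one_pow]
      set w : (S : Subgroup G) := ⟨_, hm⟩ with hw
      obtain ⟨c, hc⟩ := hk
      have hxk2 : (x ^ k) * (x ^ k) = z₀ := by
        rw [← pow_add, show k + k = 4 * c + 2 by omega, pow_add, pow_mul, hx4, one_pow, one_mul,
          pow_two, hxx]
      have hw2G : (w : G) * w = g⁻¹ * (z₀ : G) * g := by
        rw [← hxk2, Subgroup.coe_mul, Subgroup.coe_pow]
        show g⁻¹ * (x : G) ^ k * g * (g⁻¹ * (x : G) ^ k * g) = _
        group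
      refine hφne w fun hwM => ?_
      obtain ⟨i, hi | hi⟩ := (hMmem w).mp hwM
      · -- `w² = z₀`, so `g` centralises `z₀`
        have hw1 : w * w ≠ 1 := fun e => hz1 (Subtype.ext (by
          have := congrArg Subtype.val e
          rw [Subgroup.coe_mul, hw2G] at this
          exact conj_eq_one_iff.mp (show g⁻¹ * (z₀ : G) * g⁻¹⁻¹ = 1 by rw [inv_inv]; exact this)))
        have hw4 : (w * w) * (w * w) = 1 := Subtype.ext (by
          rw [Subgroup.coe_mul, Subgroup.coe_mul, hw2G]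
          have : (z₀ : G) * z₀ = 1 := congrArg Subtype.val hz2
          calc g⁻¹ * (z₀ : G) * g * (g⁻¹ * z₀ * g) = g⁻¹ * ((z₀ : G) * z₀) * g := by group
            _ = 1 := by rw [this]; group)
        have hww : w * w = z₀ := by
          rw [hi, ← zpow_add] at hw1 hw4 ⊢
          rw [← zpow_add, ← orderOf_dvd_iff_zpow_eq_one, hoa] at hw4
          rw [Ne, ← orderOf_dvd_iff_zpow_eq_one, hoa] at hw1
          rw [hz₀, zpow_eq_zpow_iff_modEq, Int.modEq_iff_dvd, hoa]
          obtain ⟨d, hd⟩ := hw4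
          push_cast at hd hw1 ⊢
          rcases Int.even_or_odd d with ⟨d', rfl⟩ | ⟨d', rfl⟩
          · exact absurd ⟨d', mul_left_cancel₀ (show (2 : ℤ) ≠ 0 by norm_num) (by linear_combination hd)⟩ hw1
          · exact ⟨-d', mul_left_cancel₀ (show (2 : ℤ) ≠ 0 by norm_num) (by linear_combination -hd)⟩
        have hgS : g ∈ (S : Subgroup G) := by
          rw [← hC, Subgroup.mem_centralizer_singleton_iff]
          have e := congrArg Subtype.val hww
          rw [Subgroup.coe_mul, hw2G] at e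
          rw [inv_mul_eq_iff_eq_mul.mp (show g⁻¹ * ((z₀ : G) * g) = z₀ by rw [← mul_assoc]; exact e)]
        have hMn : M.Normal := Subgroup.normal_of_index_eq_two hM2
        have hwe : w = (⟨g, hgS⟩ : (S : Subgroup G))⁻¹ * x ^ k * ⟨g, hgS⟩ := Subtype.ext (by
          simp [hw])
        rw [hwe] at hwM
        have hxk : x ^ k ∈ M := by
          have := hMn.conj_mem _ hwM ⟨g, hgS⟩
          simpa [mul_assoc] using this
        apply hxM
        have : x = x ^ k * (z₀ ^ c)⁻¹ := by
          rw [hc, pow_succ', pow_mul, pow_two, hxx, mul_inv_cancel_right]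
        rw [this]
        exact M.mul_mem hxk (M.inv_mem (M.pow_mem (hinvM z₀ hz2) c))
      · have hw1 : w * w = 1 := by
          rw [hi, hsd.sq_outside, ← orderOf_dvd_iff_zpow_eq_one, hoa]
          have hu' : (2 : ℤ) ^ (n - 2) = 2 * u := by exact_mod_cast hu
          exact ⟨i, by rw [hu']; push_cast; ring⟩
        apply hz1
        apply Subtype.ext
        have := congrArg Subtype.val hw1
        rw [Subgroup.coe_mul, hw2G] at this
        exact conj_eq_one_iff.mp (show g⁻¹ * (z₀ : G) * g⁻¹⁻¹ = 1 by rw [inv_inv]; exact this)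
  have hnot := CfsgLib.Transfer.notMem_commutator_of_controlled (p := 2) φ (g := (x : G)) x.2
    ⟨2, by rw [show 2 ^ 2 = 4 from rfl, ← Subgroup.coe_pow, hx4]; rfl⟩
    (by rw [show (⟨(x : G), x.2⟩ : (S : Subgroup G)) = x from rfl, hφne x hxM]; decide)
    ((Nat.Prime.coprime_iff_not_dvd Nat.prime_two).mpr S.not_dvd_index) key
  refine hnot ?_
  rcases (inferInstance : (commutator G).Normal).eq_bot_or_eq_top with e | e
  · exact absurd ⟨⟨fun p q => by
      have : p * q * p⁻¹ * q⁻¹ ∈ commutator G :=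
        Subgroup.commutator_mem_commutator (Subgroup.mem_top p) (Subgroup.mem_top q)
      rw [e, Subgroup.mem_bot, mul_inv_eq_one, mul_inv_eq_iff_eq_mul] at this
      exact this⟩⟩ hna
  · rw [e]; exact Subgroup.mem_top _

/-- Forward direction up to the field. -/
theorem SC.exists_psl (h : SC G) (hna : ¬ IsMulCommutative G) :
    ∃ (F : Type) (_ : Field F) (_ : Fintype F), Odd (Fintype.card F) ∧
      Nonempty (G ≃* Matrix.ProjectiveSpecialLinearGroup (Fin 2) F) := by
  classical
  haveI := Fact.mk Nat.prime_two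
  obtain ⟨S⟩ : Nonempty (Sylow 2 G) := inferInstance
  obtain ⟨z, hzS, hz, hzc⟩ := exists_central_invol hna S
  obtain ⟨s, hsS, hs, hsz⟩ := exists_second hna S hz hzS
  have hC := h.cent_eq_sylow hna S hz hzc
  have hc : Commute z s := (hzc s hsS).symm
  have hself : ∀ x : (S : Subgroup G), Commute x ⟨s, hsS⟩ → x = 1 ∨ x = ⟨z, hzS⟩ ∨
      x = ⟨s, hsS⟩ ∨ x = ⟨z, hzS⟩ * ⟨s, hsS⟩ := by
    intro x hx
    rcases h.four_self hz hs (Ne.symm hsz) hc (hzc x x.2) (congrArg Subtype.val hx.eq) with e | e | e | e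
    · exact Or.inl (Subtype.ext e)
    · exact Or.inr (Or.inl (Subtype.ext e))
    · exact Or.inr (Or.inr (Or.inl (Subtype.ext e)))
    · exact Or.inr (Or.inr (Or.inr (Subtype.ext e)))
  obtain ⟨m, hm, ⟨e⟩⟩ : ∃ m : ℕ, 2 ≤ m ∧ Nonempty ((S : Subgroup G) ≃* DihedralGroup m) := by
    have hz' : orderOf (⟨z, hzS⟩ : (S : Subgroup G)) = 2 := by rw [← Subgroup.orderOf_coe]; exact hz
    have hs' : orderOf (⟨s, hsS⟩ : (S : Subgroup G)) = 2 := by rw [← Subgroup.orderOf_coe]; exact hs
    have hne : (⟨z, hzS⟩ : (S : Subgroup G)) ≠ ⟨s, hsS⟩ := fun e => hsz (congrArg Subtype.val e).symm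
    have hcent : ∀ x : (S : Subgroup G), Commute x ⟨z, hzS⟩ := fun x => Subtype.ext (hzc x x.2)
    rcases shape S.2 hz' hs' hne hcent hself with h4 | ⟨n, hn, he⟩ | ⟨n, a, b, hsd⟩
    · have h2 : 2 < Nat.card (S : Subgroup G) := by
        haveI := Fintype.ofFinite (S : Subgroup G)
        have : ({1, ⟨z, hzS⟩, ⟨s, hsS⟩} : Finset (S : Subgroup G)).card = 3 := by
          rw [Finset.card_insert_of_notMem (by
            simp [Subtype.ext_iff, Ne.symm (ne_one_of_orderOf_two hz), Ne.symm (ne_one_of_orderOf_two hs)]),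
            Finset.card_pair hne]
        rw [Nat.card_eq_fintype_card]
        exact lt_of_lt_of_le (by omega) (Finset.card_le_univ ({1, ⟨z, hzS⟩, ⟨s, hsS⟩} : Finset (S : Subgroup G)))
      have h4' : Nat.card (S : Subgroup G) = 4 := by
        obtain ⟨k, hk⟩ := IsPGroup.iff_card.mp S.2
        rcases k with _ | _ | _ | k
        · omega
        · omega
        · exact hk
        · have : 8 ≤ 2 ^ (k + 1 + 1 + 1) := Nat.pow_le_pow_right two_pos (by omega : 3 ≤ k + 1 + 1 + 1)
          omega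
      haveI : IsKleinFour (S : Subgroup G) := by
        refine ⟨h4', ?_⟩
        haveI : Nontrivial (S : Subgroup G) := ⟨_, _, hne⟩
        rw [Monoid.exponent_eq_prime_iff Nat.prime_two |>.mpr]
        intro w hw
        refine orderOf_eq_prime ?_ hw
        by_contra hne2
        obtain ⟨k, hk⟩ := IsPGroup.iff_orderOf.mp S.2 w
        have hd : orderOf w ∣ Nat.card (S : Subgroup G) := orderOf_dvd_natCard w
        have h4w : orderOf w = Nat.card (S : Subgroup G) := by
          rcases (Nat.dvd_prime_pow Nat.prime_two).mp (show orderOf w ∣ 2 ^ 2 by rw [h4'] at hd; exact hd)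
            with ⟨j, hj, hj'⟩
          interval_cases j
          · simp [orderOf_eq_one_iff] at hj'; exact absurd hj' hw
          · exact absurd (orderOf_dvd_iff_pow_eq_one.mp (by rw [hj']; norm_num)) hne2
          · rw [hj', h4']; norm_num
        haveI : IsCyclic (S : Subgroup G) := isCyclic_of_orderOf_eq_card w h4w
        haveI := Fintype.ofFinite (S : Subgroup G)
        have h3 : 3 ≤ (Finset.univ.filter fun a : (S : Subgroup G) => a ^ 2 = 1).card := by
          refine le_trans (le_of_eq ?_) (Finset.card_le_card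
            (show ({1, ⟨z, hzS⟩, ⟨s, hsS⟩} : Finset (S : Subgroup G)) ⊆ _ from fun a ha => ?_))
          · rw [Finset.card_insert_of_notMem (by
              simp [Subtype.ext_iff, Ne.symm (ne_one_of_orderOf_two hz), Ne.symm (ne_one_of_orderOf_two hs)]),
              Finset.card_pair hne]
          · simp only [Finset.mem_insert, Finset.mem_singleton] at ha
            simp only [Finset.mem_filter, Finset.mem_univ, true_and]
            rcases ha with rfl | rfl | rfl
            · simp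
            · rw [pow_two]; exact mul_self_of_orderOf_two hz'
            · rw [pow_two]; exact mul_self_of_orderOf_two hs'
        have := IsCyclic.card_pow_eq_one_le (α := (S : Subgroup G)) (n := 2) two_pos
        omega
      haveI : IsKleinFour (DihedralGroup 2) := DihedralGroup.instIsKleinFourOfNatNat
      exact ⟨2, le_rfl, IsKleinFour.nonempty_mulEquiv⟩
    · exact ⟨2 ^ (n - 1), le_trans (by norm_num)
        (Nat.pow_le_pow_right two_pos (by omega : 1 ≤ n - 1)), he⟩
    · exact (h.no_sd hna S hsd).elim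
  have hO : (Cfsg.oddCore (Subgroup.centralizer ({z} : Set G))).map
      (Subgroup.centralizer ({z} : Set G)).subtype = ⊥ := by
    rw [Subgroup.map_eq_bot_iff_of_injective _ (Subgroup.subtype_injective _)]
    haveI := (CfsgLib.SelfCent.pPrimeCore_normal' (G := ↥(Subgroup.centralizer ({z} : Set G))) 2)
    have hcop : Nat.Coprime (Nat.card (Cfsg.oddCore ↥(Subgroup.centralizer ({z} : Set G)))) 2 :=
      CfsgLib.SelfCent.pPrimeCore_coprime 2
    obtain ⟨k, hk⟩ := IsPGroup.iff_card.mp ((h.two_group hna hz).to_subgroup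
      (Cfsg.oddCore ↥(Subgroup.centralizer ({z} : Set G))))
    refine Subgroup.card_eq_one.mp ?_
    rw [hk]
    rw [hk] at hcop
    rcases k with _ | k
    · rfl
    · exfalso
      rw [Nat.coprime_pow_left_iff (by omega)] at hcop
      exact absurd hcop (by decide)
  refine Cfsg.Agent.S0508.result S m hm ⟨e⟩ z hz hzS hzc ⊥ hO.symm (fun h => absurd rfl h) ?_ ?_
  · intro t _ ht _ _
    exact absurd (Subgroup.mem_centralizer_iff.mpr (by simp)) ht
  · exact fun Y hY hne => absurd (le_bot_iff.mp hY) hne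

end CfsgLib.NCSC
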