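import Cfsg.Agent.Lib.NoncyclicSelfCent.TwoGroup
import Cfsg.Agent.Lib.Baer.Basic
import Cfsg.Agent.Lib.ZStar.Main
import Cfsg.Agent.Lib.OddOrder.Solvable

/-!
If every non-cyclic subgroup contains its centraliser, then centralisers of involutions of a
simple group are 2-groups.
-/

set_option autoImplicit false
set_option linter.style.haveILetI false

namespace CfsgLib.NCSC

open CfsgLib.Invol

variable {G : Type*} [Group G]

/-- Every non-cyclic subgroup contains its centraliser. -/
def SC (G : Type*) [Group G] : Prop :=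
  ∀ H : Subgroup G, ¬ IsCyclic ↥H → Subgroup.centralizer (H : Set G) ≤ H

theorem not_isCyclic_of_noncomm {a b : G} (h : a * b ≠ b * a) :
    ¬ IsCyclic ↥(Subgroup.closure ({a, b} : Set G)) := by
  intro hc
  haveI := hc
  obtain ⟨g, hg⟩ := IsCyclic.exists_generator (α := ↥(Subgroup.closure ({a, b} : Set G)))
  obtain ⟨i, hi⟩ := hg ⟨a, Subgroup.subset_closure (by simp)⟩
  obtain ⟨j, hj⟩ := hg ⟨b, Subgroup.subset_closure (by simp)⟩
  apply h
  have e := ((Commute.refl g).zpow_zpow i j).eq
  simp only at hi hj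
  rw [hi, hj] at e
  exact congrArg Subtype.val e

theorem commute_of_mem_centralizer_pair {a b x : G}
    (ha : Commute x a) (hb : Commute x b) :
    x ∈ Subgroup.centralizer ((Subgroup.closure ({a, b} : Set G) : Subgroup G) : Set G) := by
  rw [Subgroup.centralizer_closure, Subgroup.mem_centralizer_iff]
  rintro y (rfl | rfl)
  · exact ha.eq.symm
  · exact hb.eq.symm

variable [Finite G]

/-- An involution does not centralise an odd element inverted by an involution it centralises. -/
theorem SC.no_inverted (h : SC G) {t s y : G} (ht : orderOf t = 2) (hs : orderOf s = 2) (hts : Commute t s) (hty : Commute t y)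
    (hy : Odd (orderOf y)) (hinv : s * y * s⁻¹ = y⁻¹) : y = 1 := by
  by_contra hy1
  have hne : s * y ≠ y * s := fun e => hy1 (eq_one_of_odd_of_sq hy (by
    rw [e, mul_inv_cancel_right] at hinv
    exact eq_inv_iff_mul_eq_one.mp hinv))
  have htH : t ∈ Subgroup.closure ({s, y} : Set G) :=
    h _ (not_isCyclic_of_noncomm hne) (commute_of_mem_centralizer_pair hts hty)
  have hsn : Subgroup.zpowers s ≤ Subgroup.normalizer (Subgroup.zpowers y : Set G) := by
    rw [Subgroup.zpowers_le, Subgroup.mem_normalizer_iff]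
    intro z
    constructor
    · rintro ⟨i, rfl⟩
      exact ⟨-i, by show y ^ (-i) = s * y ^ i * s⁻¹; rw [← conj_zpow, hinv, inv_zpow']⟩
    · rintro ⟨i, hi⟩
      refine ⟨-i, ?_⟩
      have e : z = s⁻¹ * (y ^ i) * s := by
        rw [show y ^ i = s * z * s⁻¹ from hi]; group
      have e2 : s * y ^ (-i) * s⁻¹ = y ^ i := by rw [← conj_zpow, hinv, inv_zpow', neg_neg]
      show y ^ (-i) = z
      rw [e, ← e2]; group
  have hle : Subgroup.closure ({s, y} : Set G) ≤ Subgroup.zpowers y ⊔ Subgroup.zpowers s := by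
    rw [Subgroup.closure_le]
    rintro w (rfl | rfl)
    · exact Subgroup.mem_sup_right (Subgroup.mem_zpowers _)
    · exact Subgroup.mem_sup_left (Subgroup.mem_zpowers _)
  have hm := hle htH
  rw [← SetLike.mem_coe,
    Subgroup.coe_mul_of_right_le_normalizer_left _ (Subgroup.zpowers s) hsn] at hm
  obtain ⟨u, ⟨i, rfl⟩, v, ⟨j, rfl⟩, huv⟩ := hm
  simp only at huv
  -- `t` centralises `y`, so `s ^ j` does
  have hj : Commute (s ^ j) y := by
    have e : s ^ j = (y ^ i)⁻¹ * t := by rw [← huv]; group
    rw [e]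
    exact ((Commute.refl y).zpow_left i).inv_left.mul_left hty
  have hss : s * s = 1 := mul_self_of_orderOf_two hs
  rcases Int.even_or_odd j with ⟨k, rfl⟩ | ⟨k, rfl⟩
  · have e : y ^ i = t := by
      rw [← huv, ← two_mul, zpow_mul, zpow_two, hss, one_zpow, mul_one]
    have ht1 : t = 1 := eq_one_of_odd_of_sq
      (hy.of_dvd_nat (e ▸ orderOf_dvd_of_mem_zpowers ⟨i, rfl⟩)) (mul_self_of_orderOf_two ht)
    exact ne_one_of_orderOf_two ht ht1
  · rw [zpow_add_one, zpow_mul, zpow_two, hss, one_zpow, one_mul] at hj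
    exact hne hj.eq

/-- A commuting pair of involutions spans a subgroup which is self-centralising. -/
theorem SC.four_self (h : SC G) {t s x : G} (ht : orderOf t = 2) (hs : orderOf s = 2) (hts : t ≠ s)
    (hc : Commute t s) (hxt : Commute x t) (hxs : Commute x s) :
    x = 1 ∨ x = t ∨ x = s ∨ x = t * s := by
  have htt := mul_self_of_orderOf_two ht
  have hss := mul_self_of_orderOf_two hs
  let V : Subgroup G :=
    { carrier := {w | w = 1 ∨ w = t ∨ w = s ∨ w = t * s}
      one_mem' := Or.inl rfl
      mul_mem' := by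
        rintro a b ha hb
        have e1 : s * t = t * s := hc.eq.symm
        have e2 : t * (t * s) = s := by rw [← mul_assoc, htt, one_mul]
        have e3 : s * (t * s) = t := by rw [← mul_assoc, e1, mul_assoc, hss, mul_one]
        have e4 : t * s * t = s := by rw [mul_assoc, e1, e2]
        have e5 : t * s * s = t := by rw [mul_assoc, hss, mul_one]
        have e6 : t * s * (t * s) = 1 := by rw [← mul_assoc, e4, hss]
        rcases ha with rfl | rfl | rfl | rfl <;> rcases hb with rfl | rfl | rfl | rfl <;>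
          simp only [Set.mem_ofPred_eq, one_mul, mul_one, htt, hss, e1, e2, e3, e4, e5, e6,
            true_or, or_true]
      inv_mem' := by
        rintro a (rfl | rfl | rfl | rfl)
        · simp
        · exact Or.inr (Or.inl (inv_of_orderOf_two ht))
        · exact Or.inr (Or.inr (Or.inl (inv_of_orderOf_two hs)))
        · refine Or.inr (Or.inr (Or.inr ?_))
          rw [mul_inv_rev, inv_of_orderOf_two ht, inv_of_orderOf_two hs, hc.eq] }
  refine h V (fun hcy => ?_) (Subgroup.mem_centralizer_iff.mpr ?_)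
  · haveI := hcy
    haveI := Fintype.ofFinite V
    classical
    have h3 : 3 ≤ (Finset.univ.filter fun a : V => a ^ 2 = 1).card := by
      have : ({1, ⟨t, Or.inr (Or.inl rfl)⟩, ⟨s, Or.inr (Or.inr (Or.inl rfl))⟩} : Finset V) ⊆
          Finset.univ.filter fun a : V => a ^ 2 = 1 := by
        intro a ha
        simp only [Finset.mem_insert, Finset.mem_singleton] at ha
        simp only [Finset.mem_filter, Finset.mem_univ, true_and]
        rcases ha with rfl | rfl | rfl
        · simp
        · exact Subtype.ext (by simp [pow_two, htt])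
        · exact Subtype.ext (by simp [pow_two, hss])
      refine le_trans ?_ (Finset.card_le_card this)
      rw [Finset.card_insert_of_notMem (by
        simp [Subtype.ext_iff, Ne.symm (ne_one_of_orderOf_two ht), Ne.symm (ne_one_of_orderOf_two hs)]),
        Finset.card_pair (by simp [Subtype.ext_iff, hts])]
    have h2 := IsCyclic.card_pow_eq_one_le (α := V) (n := 2) two_pos
    omega
  · rintro w (rfl | rfl | rfl | rfl)
    · simp
    · exact hxt.eq.symm
    · exact hxs.eq.symm
    · exact (hxt.mul_right hxs).eq.symm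

/-- Two involutions with product of 2-power order generate a 2-group. -/
theorem isPGroup_closure_pair {x y : G} (hx : orderOf x = 2) (hy : orderOf y = 2) {k : ℕ}
    (hk : orderOf (x * y) = 2 ^ k) : IsPGroup 2 ↥(Subgroup.closure ({x, y} : Set G)) := by
  intro d
  obtain ⟨i, hd | hd⟩ := (mem_closure_pair_iff hx hy).mp d.2
  · refine ⟨k, Subtype.ext ?_⟩
    rw [Subgroup.coe_pow, hd, ← zpow_natCast, ← zpow_mul, mul_comm, zpow_mul, zpow_natCast, ← hk,
      pow_orderOf_eq_one, one_zpow]
    rfl
  · refine ⟨1, Subtype.ext ?_⟩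
    rw [Subgroup.coe_pow, hd, pow_one, pow_two, left_mul_zpow_mul_self hx hy, sub_self, zpow_zero]
    rfl

/-- The centraliser of an involution centralising another one is a 2-group. -/
theorem SC.two_group_of_pair (h : SC G) {t s : G} (ht : orderOf t = 2) (hs : orderOf s = 2)
    (hts : t ≠ s) (hc : Commute t s) : IsPGroup 2 ↥(Subgroup.centralizer ({t} : Set G)) := by
  classical
  haveI := Fact.mk Nat.prime_two
  set X := Subgroup.centralizer ({t} : Set G) with hX
  have hmemX : ∀ x : G, x ∈ X ↔ Commute x t := fun x => Subgroup.mem_centralizer_singleton_iff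
  let s' : X := ⟨s, (hmemX s).mpr hc.symm⟩
  let t' : X := ⟨t, (hmemX t).mpr (Commute.refl t)⟩
  have hs' : orderOf s' = 2 := by rw [← Subgroup.orderOf_coe]; exact hs
  obtain ⟨N, hNn, hNp, hle⟩ := Baer.baer_suzuki (p := 2) (Subgroup.zpowers s')
    (IsPGroup.of_card (n := 1) (by rw [Nat.card_zpowers, hs', pow_one])) fun g => by
      have hg2 : orderOf (g * s' * g⁻¹) = 2 := conj_orderOf_two hs' g
      obtain ⟨k, m, hm, hkm⟩ := Nat.exists_eq_two_pow_mul_odd (orderOf_pos (s' * (g * s' * g⁻¹))).ne'
      have hm1 : m = 1 := by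
        set u := s' * (g * s' * g⁻¹)
        have hy : orderOf ((u : G) ^ (2 ^ k)) = m := by
          rw [orderOf_pow_of_dvd (by positivity) (by rw [Subgroup.orderOf_coe, hkm]; exact dvd_mul_right _ _),
            Subgroup.orderOf_coe, hkm, Nat.mul_div_cancel_left _ (by positivity)]
        have he : (u : G) ^ (2 ^ k) = 1 := by
          refine h.no_inverted ht hs hc ?_ (hy ▸ hm) ?_
          · exact (((hmemX _).mp u.2).symm).pow_right _
          · rw [← conj_pow, ← inv_pow]
            congr 1
            exact congrArg Subtype.val (conj_prod hs' hg2)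
        rw [he, orderOf_one] at hy
        exact hy.symm
      rw [hm1, mul_one] at hkm
      refine (isPGroup_closure_pair hs' hg2 hkm).to_le (sup_le ?_ ?_)
      · exact Subgroup.zpowers_le.mpr (Subgroup.subset_closure (by simp))
      · rw [MonoidHom.map_zpowers, Subgroup.zpowers_le]
        exact Subgroup.subset_closure (by simp)
  haveI := hNn
  have ht' : IsPGroup 2 ↥(Subgroup.zpowers t') :=
    IsPGroup.of_card (n := 1) (by rw [Nat.card_zpowers, ← Subgroup.orderOf_coe, pow_one]; exact ht)
  set M : Subgroup X := N ⊔ Subgroup.zpowers t' with hM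
  have hMp : IsPGroup 2 M := hNp.to_sup_of_normal_left ht'
  haveI hMn : M.Normal := by
    haveI : (Subgroup.zpowers t').Normal := ⟨fun x hx g => by
      obtain ⟨i, rfl⟩ := hx
      have : Commute g t' := Subtype.ext ((hmemX _).mp g.2).eq
      show g * t' ^ i * g⁻¹ ∈ _
      rw [(this.zpow_right i).eq, mul_inv_cancel_right]
      exact zpow_mem (Subgroup.mem_zpowers t') i⟩
    exact Subgroup.sup_normal N _
  have hsM : s' ∈ M := Subgroup.mem_sup_left (hle (Subgroup.mem_zpowers s'))
  have htM : t' ∈ M := Subgroup.mem_sup_right (Subgroup.mem_zpowers t')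
  -- odd prime order elements centralise `M`
  intro y
  obtain ⟨k, m, hm, hkm⟩ := Nat.exists_eq_two_pow_mul_odd (orderOf_pos y).ne'
  refine ⟨k, ?_⟩
  by_contra hne
  have hm1 : m ≠ 1 := fun e => hne (by
    rw [← orderOf_dvd_iff_pow_eq_one, hkm, e, mul_one])
  obtain ⟨q, hq, hqm⟩ := Nat.exists_prime_and_dvd hm1
  have : Fact q.Prime := ⟨hq⟩
  obtain ⟨w, hw⟩ := exists_prime_orderOf_dvd_card' (G := X) q
    ((hqm.trans (Dvd.intro_left _ hkm.symm)).trans (orderOf_dvd_natCard y))
  have hqodd : Odd q := hm.of_dvd_nat hqm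
  let σ : MulAut M := MulAut.conjNormal w
  have hσ : σ ^ q = 1 := by rw [← map_pow, ← hw, pow_orderOf_eq_one, map_one]
  have hσt : σ ⟨t', htM⟩ = ⟨t', htM⟩ := Subtype.ext (Subtype.ext (by
    show (w : G) * t * (w : G)⁻¹ = t
    rw [((hmemX _).mp w.2).eq, mul_inv_cancel_right]))
  have hfix : σ ⟨s', hsM⟩ = ⟨s', hsM⟩ := by
    have ht2 : orderOf (⟨t', htM⟩ : M) = 2 := by
      rw [← Subgroup.orderOf_coe, ← Subgroup.orderOf_coe]; exact ht
    have hs2 : orderOf (⟨s', hsM⟩ : M) = 2 := by
      rw [← Subgroup.orderOf_coe, ← Subgroup.orderOf_coe]; exact hs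
    have hne2 : (⟨t', htM⟩ : M) ≠ ⟨s', hsM⟩ := fun e =>
      hts (congrArg Subtype.val (congrArg Subtype.val e))
    have hcent : ∀ x : M, Commute x ⟨t', htM⟩ := fun x =>
      Subtype.ext (Subtype.ext ((hmemX _).mp x.1.2).eq)
    have hself : ∀ x : M, Commute x ⟨s', hsM⟩ → x = 1 ∨ x = ⟨t', htM⟩ ∨ x = ⟨s', hsM⟩ ∨
        x = ⟨t', htM⟩ * ⟨s', hsM⟩ := by
      intro x hx
      rcases h.four_self ht hs hts hc ((hmemX _).mp x.1.2)
        (congrArg Subtype.val (congrArg Subtype.val hx.eq)) with e | e | e | e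
      · exact Or.inl (Subtype.ext (Subtype.ext e))
      · exact Or.inr (Or.inl (Subtype.ext (Subtype.ext e)))
      · exact Or.inr (Or.inr (Or.inl (Subtype.ext (Subtype.ext e))))
      · exact Or.inr (Or.inr (Or.inr (Subtype.ext (Subtype.ext e))))
    rcases shape hMp ht2 hs2 hne2 hcent hself with h4 | ⟨n, hn, ⟨e⟩⟩ | ⟨n, a, b, hsd⟩
    · -- the group is the four group
      have hall : ∀ x : M, x = 1 ∨ x = ⟨t', htM⟩ ∨ x = ⟨s', hsM⟩ ∨
          x = ⟨t', htM⟩ * ⟨s', hsM⟩ := by
        haveI := Fintype.ofFinite M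
        have hts1 : (⟨t', htM⟩ : M) * ⟨s', hsM⟩ ≠ 1 := fun e => hne2 (by
          rw [← inv_of_orderOf_two hs2]; exact eq_inv_of_mul_eq_one_left e)
        have hs'1 : s' ≠ 1 := ne_one_of_orderOf_two hs'
        have ht'1 : t' ≠ 1 := fun e => ne_one_of_orderOf_two ht (congrArg Subtype.val e)
        have hts'1 : t' * s' ≠ 1 := fun e => hts1 (Subtype.ext e)
        have hu : ({1, ⟨t', htM⟩, ⟨s', hsM⟩, ⟨t', htM⟩ * ⟨s', hsM⟩} : Finset M) = Finset.univ := by
          refine Finset.eq_univ_of_card _ (le_antisymm (Finset.card_le_univ _) ?_)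
          rw [← Nat.card_eq_fintype_card, Finset.card_insert_of_notMem (by
              simp [Subtype.ext_iff, Ne.symm (ne_one_of_orderOf_two ht), Ne.symm (ne_one_of_orderOf_two hs), t', s', show t * s ≠ 1 from fun e => hts'1 (Subtype.ext e), Ne.symm (show t * s ≠ 1 from fun e => hts'1 (Subtype.ext e))]),
            Finset.card_insert_of_notMem (by simp [Subtype.ext_iff, hts, t', s', ne_one_of_orderOf_two hs]),
            Finset.card_pair (by simp [Subtype.ext_iff, t', s', ne_one_of_orderOf_two ht])]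
          exact h4
        intro x
        have hx := Finset.mem_univ x
        rw [← hu] at hx
        simpa using hx
      rcases hall (σ ⟨s', hsM⟩) with e | e | e | e
      · exact absurd (σ.map_eq_one_iff.mp e) (ne_one_of_orderOf_two hs2)
      · exact absurd (σ.injective (e.trans hσt.symm)).symm hne2
      · exact e
      · exfalso
        have h2 : (σ ^ 2) ⟨s', hsM⟩ = ⟨s', hsM⟩ := by
          rw [pow_two, MulAut.mul_apply, e, map_mul, hσt, e, ← mul_assoc,
            mul_self_of_orderOf_two ht2, one_mul]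
        obtain ⟨c, hc⟩ := hqodd
        have h3 : (σ ^ q) ⟨s', hsM⟩ = σ ⟨s', hsM⟩ := by
          rw [hc, pow_succ', MulAut.mul_apply]
          congr 1
          rw [pow_mul]
          clear hc hσ
          induction c with
          | zero => rfl
          | succ c IH => rw [pow_succ, MulAut.mul_apply, h2, IH]
        rw [hσ, MulAut.one_apply, e] at h3
        exact ne_one_of_orderOf_two ht2 (mul_eq_right.mp h3.symm)
    · have h8 : 3 ≤ 2 ^ (n - 1) := le_trans (by norm_num)
        (Nat.pow_le_pow_right two_pos (by omega : 2 ≤ n - 1))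
      rw [fixed_of_hasTopCyclic hMp (hasTopCyclic_dihedral h8 e) σ hqodd hσ, MulAut.one_apply]
    · rw [fixed_of_hasTopCyclic hMp hsd.hasTopCyclic σ hqodd hσ, MulAut.one_apply]
  have hws : Commute (w : G) s := by
    have e : (w : G) * s * (w : G)⁻¹ = s := congrArg Subtype.val (congrArg Subtype.val hfix)
    exact mul_inv_eq_iff_eq_mul.mp e
  have h2 : (w : G) * w = 1 := by
    have htts : (t * s) * (t * s) = 1 := by
      calc (t * s) * (t * s) = t * (s * t) * s := by group
        _ = 1 := by rw [← hc.eq, ← mul_assoc, mul_self_of_orderOf_two ht, one_mul,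
          mul_self_of_orderOf_two hs]
    rcases h.four_self ht hs hts hc ((hmemX _).mp w.2) hws with e | e | e | e <;> rw [e]
    exacts [one_mul 1, mul_self_of_orderOf_two ht, mul_self_of_orderOf_two hs, htts]
  have := eq_one_of_odd_of_sq (show Odd (orderOf (w : G)) by rw [Subgroup.orderOf_coe, hw]; exact hqodd) h2
  rw [← Subgroup.orderOf_coe, this, orderOf_one] at hw
  exact hq.ne_one hw.symm

section Simple

variable [IsSimpleGroup G]

theorem center_eq_bot (hna : ¬ IsMulCommutative G) : Subgroup.center G = ⊥ :=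
  (inferInstance : (Subgroup.center G).Normal).eq_bot_or_eq_top.resolve_right fun e => hna
    ⟨⟨fun a b => Subgroup.mem_center_iff.mp (e ▸ Subgroup.mem_top b) a⟩⟩

/-- A nonabelian simple group has even order. -/
theorem two_dvd (hna : ¬ IsMulCommutative G) : 2 ∣ Nat.card G := by
  by_contra h2
  have hsol := CfsgLib.OddOrder.odd_order_solvable (G := G) (Nat.odd_iff.mpr (by omega))
  exact hna ⟨⟨fun a b => (IsSimpleGroup.comm_iff_isSolvable.mpr hsol) a b⟩⟩

/-- No involution of a nonabelian simple group is alone in a Sylow 2-subgroup up to conjugacy. -/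
theorem exists_second (hna : ¬ IsMulCommutative G) (S : Sylow 2 G) {z : G} (hz : orderOf z = 2)
    (hzS : z ∈ (S : Subgroup G)) : ∃ s ∈ (S : Subgroup G), orderOf s = 2 ∧ s ≠ z := by
  by_contra hno
  push Not at hno
  obtain ⟨N, hN, hNodd, hcomm⟩ := ZStar.exists_normal_odd_commutator_mem S z hz hzS fun g hg =>
    hno _ hg (conj_orderOf_two hz g)
  rcases hN.eq_bot_or_eq_top with e | e
  · have hzc : z ∈ Subgroup.center G := Subgroup.mem_center_iff.mpr fun g => by
      have := hcomm g
      rw [e, Subgroup.mem_bot, mul_inv_eq_one, mul_inv_eq_iff_eq_mul] at this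
      exact this.symm
    rw [center_eq_bot hna, Subgroup.mem_bot] at hzc
    exact ne_one_of_orderOf_two hz hzc
  · rw [e, Subgroup.card_top] at hNodd
    exact (Nat.not_even_iff_odd.mpr hNodd) (even_iff_two_dvd.mpr (two_dvd hna))

/-- Centralisers of involutions are 2-groups. -/
theorem SC.two_group (h : SC G) (hna : ¬ IsMulCommutative G) {t : G} (ht : orderOf t = 2) :
    IsPGroup 2 ↥(Subgroup.centralizer ({t} : Set G)) := by
  haveI := Fact.mk Nat.prime_two
  by_cases hex : ∃ s : G, orderOf s = 2 ∧ t ≠ s ∧ Commute t s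
  · obtain ⟨s, hs, hne, hc⟩ := hex
    exact h.two_group_of_pair ht hs hne hc
  exfalso
  push Not at hex
  obtain ⟨S, hS⟩ := (IsPGroup.of_card (n := 1)
    (by rw [Nat.card_zpowers, ht, pow_one]) : IsPGroup 2 ↥(Subgroup.zpowers t)).exists_le_sylow
  have htS : t ∈ (S : Subgroup G) := hS (Subgroup.mem_zpowers t)
  haveI : Nontrivial (S : Subgroup G) :=
    ⟨⟨t, htS⟩, 1, fun e => ne_one_of_orderOf_two ht (congrArg Subtype.val e)⟩
  haveI := S.2.center_nontrivial
  obtain ⟨c, hc⟩ := exists_prime_orderOf_dvd_card' (G := Subgroup.center (S : Subgroup G)) 2 (by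
    obtain ⟨k, hk⟩ := IsPGroup.iff_card.mp (S.2.to_subgroup (Subgroup.center (S : Subgroup G)))
    rcases k with _ | k
    · rw [pow_zero] at hk
      exact absurd hk (Nat.ne_of_gt Finite.one_lt_card)
    · rw [hk]; exact dvd_pow_self 2 (by omega))
  have hcz : ∀ x ∈ (S : Subgroup G), Commute x ((c : (S : Subgroup G)) : G) := fun x hx =>
    congrArg Subtype.val (Subgroup.mem_center_iff.mp c.2 ⟨x, hx⟩)
  have hc2 : orderOf ((c : (S : Subgroup G)) : G) = 2 := by
    rw [Subgroup.orderOf_coe, Subgroup.orderOf_coe, hc]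
  have hct : ((c : (S : Subgroup G)) : G) = t := by
    by_contra hne
    exact hex _ hc2 (Ne.symm hne) (hcz t htS)
  obtain ⟨s, hsS, hs2, hst⟩ := exists_second hna S ht htS
  exact hex s hs2 (Ne.symm hst) (hct ▸ hcz s hsS).symm

end Simple

end CfsgLib.NCSC
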