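import Cfsg.Agent.Lib.NoncyclicSelfCent.Main
import Cfsg.Agent.Lib.SL2.PSL

/-!
The groups `PSL(2, q)` in which non-cyclic subgroups contain their centralisers.
-/

set_option autoImplicit false
set_option linter.style.haveILetI false

namespace CfsgLib.NCSC

open CfsgLib.SL2
open scoped MatrixGroups

theorem SC.of_equiv {G K : Type*} [Group G] [Group K] (e : G ≃* K) (h : SC G) : SC K := by
  intro H hH x hx
  have h1 := h (H.comap e.toMonoidHom) (fun hc => hH ?_) (show e.symm x ∈ _ by
    rw [Subgroup.mem_centralizer_iff]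
    intro y hy
    apply e.injective
    simp only [map_mul, MulEquiv.apply_symm_apply]
    exact Subgroup.mem_centralizer_iff.mp hx (e y) hy)
  · simpa using h1
  · haveI := hc
    refine isCyclic_of_surjective (e.toMonoidHom.subgroupComap H) fun y => ?_
    exact ⟨⟨e.symm y, by simp⟩, Subtype.ext (e.apply_symm_apply (y : K))⟩

theorem odd_eq_one_of_dvd_two_pow {s k : ℕ} (hs : Odd s) (h : s ∣ 2 ^ k) : s = 1 :=
  Nat.eq_one_of_dvd_coprimes
    (Nat.Coprime.pow_right k (Nat.coprime_two_right.mpr hs)) dvd_rfl h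

/-- Prime powers next to a power of two. -/
theorem prime_or_nine {p f k : ℕ} (hp : p.Prime) (hp2 : p ≠ 2) (hf : 1 ≤ f)
    (h : p ^ f = 2 ^ k + 1 ∨ p ^ f + 1 = 2 ^ k) : f = 1 ∨ p ^ f = 9 := by
  have hodd : Odd p := hp.odd_of_ne_two hp2
  have hp3 : 3 ≤ p := by have := hp.two_le; omega
  rcases Nat.even_or_odd f with ⟨m, rfl⟩ | hfo
  · right
    have hr : Odd (p ^ m) := hodd.pow
    have hm1 : 3 ≤ p ^ m := le_trans hp3 (Nat.le_self_pow (by omega) p)
    rw [pow_add] at h ⊢
    set r := p ^ m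
    obtain ⟨s, hs⟩ := hr
    rcases h with h | h
    · -- `(r - 1) (r + 1)` is a power of two
      have h2 : 4 * (s * (s + 1)) = 2 ^ k := by rw [hs] at h; linarith [h]
      have hss : s * (s + 1) ∣ 2 ^ k := ⟨4, by rw [← h2]; ring⟩
      rcases Nat.even_or_odd s with hse | hso
      · have := odd_eq_one_of_dvd_two_pow hse.add_one ((dvd_mul_left _ _).trans hss)
        omega
      · have := odd_eq_one_of_dvd_two_pow hso ((dvd_mul_right _ _).trans hss)
        subst this
        rw [hs]; norm_num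
    · exfalso
      rcases k with _ | _ | k
      · rw [pow_zero] at h; nlinarith [h, hm1]
      · rw [zero_add, pow_one] at h; nlinarith [h, hm1]
      · rw [hs, pow_succ, pow_succ] at h
        have : (2 * s + 1) * (2 * s + 1) = 4 * (s * s + s) + 1 := by ring
        omega
  · left
    by_contra hne
    have hlt : p < p ^ f := lt_self_pow₀ (by omega) (by omega)
    have key : ∀ (x : ℤ) (T : ℤ), Odd x → T = ∑ i ∈ Finset.range f, x ^ i → Odd T := by
      intro x T hx hT
      subst hT
      rw [Int.odd_iff, Finset.sum_int_mod]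
      have : ∀ i ∈ Finset.range f, x ^ i % 2 = 1 := fun i _ => Int.odd_iff.mp hx.pow
      rw [Finset.sum_congr rfl this, Finset.sum_const, Finset.card_range, nsmul_one, ← Int.odd_iff]
      exact_mod_cast hfo
    rcases h with h | h
    · obtain ⟨T, hT⟩ : ∃ T : ℤ, T = ∑ i ∈ Finset.range f, (p : ℤ) ^ i := ⟨_, rfl⟩
      have hTo : Odd T := key _ T (by exact_mod_cast hodd) hT
      have e : T * ((p : ℤ) - 1) = ((2 ^ k : ℕ) : ℤ) := by
        rw [hT, geom_sum_mul]
        have : ((p ^ f : ℕ) : ℤ) = ((2 ^ k + 1 : ℕ) : ℤ) := by rw [h]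
        push_cast at this ⊢
        linarith
      have h1 : T.natAbs ∣ 2 ^ k := by
        rw [← Int.natCast_dvd_natCast, Int.natAbs_dvd]
        exact ⟨(p : ℤ) - 1, e.symm⟩
      have h2 := odd_eq_one_of_dvd_two_pow (Int.natAbs_odd.mpr hTo) h1
      have hlt' : (p : ℤ) < ((2 ^ k + 1 : ℕ) : ℤ) := by rw [← h]; exact_mod_cast hlt
      push_cast at hlt' e
      rcases Int.natAbs_eq_iff.mp h2 with hT1 | hT1 <;> rw [hT1] at e <;> push_cast at e <;> linarith
    · obtain ⟨T, hT⟩ : ∃ T : ℤ, T = ∑ i ∈ Finset.range f, (-(p : ℤ)) ^ i := ⟨_, rfl⟩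
      have hTo : Odd T := key _ T (Int.odd_iff.mpr (by
        have : p % 2 = 1 := Nat.odd_iff.mp hodd
        omega)) hT
      have e : T * ((p : ℤ) + 1) = ((2 ^ k : ℕ) : ℤ) := by
        have hg := geom_sum_mul (-(p : ℤ)) f
        rw [← hT, hfo.neg_pow] at hg
        have : ((p ^ f + 1 : ℕ) : ℤ) = ((2 ^ k : ℕ) : ℤ) := by rw [h]
        push_cast at this ⊢
        linarith
      have h1 : T.natAbs ∣ 2 ^ k := by
        rw [← Int.natCast_dvd_natCast, Int.natAbs_dvd]
        exact ⟨(p : ℤ) + 1, e.symm⟩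
      have h2 := odd_eq_one_of_dvd_two_pow (Int.natAbs_odd.mpr hTo) h1
      have hlt' : (p : ℤ) + 1 < ((2 ^ k : ℕ) : ℤ) := by
        rw [← h]; exact_mod_cast Nat.succ_lt_succ hlt
      push_cast at hlt' e
      rcases Int.natAbs_eq_iff.mp h2 with hT1 | hT1 <;> rw [hT1] at e <;> push_cast at e <;> linarith

/-- The condition on the number of field elements. -/
def GoodQ (q : ℕ) : Prop :=
  q = 4 ∨ q = 9 ∨ (q.Prime ∧ ∃ k : ℕ, q = 2 ^ k + 1 ∨ q = 2 ^ k - 1)

variable {F : Type} [Field F] [Fintype F]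

/-- Forward arithmetic. -/
theorem goodQ_of_SC (hodd : Odd (Fintype.card F))
    [IsSimpleGroup (Matrix.ProjectiveSpecialLinearGroup (Fin 2) F)]
    (hna : ¬ IsMulCommutative (Matrix.ProjectiveSpecialLinearGroup (Fin 2) F))
    (h : SC (Matrix.ProjectiveSpecialLinearGroup (Fin 2) F)) : GoodQ (Fintype.card F) := by
  classical
  rw [← Nat.card_eq_fintype_card] at hodd ⊢
  have h2 : (2 : F) ≠ 0 := odd_card_two_ne_zero hodd
  set g : SL(2, F) := companion 0 with hg
  have htr : (g : Matrix (Fin 2) (Fin 2) F).trace = 0 := companion_trace 0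
  have hreg := regular_of_trace_zero h2 htr
  have hne : proj g ≠ 1 := by
    rw [Ne, proj_eq_one_iff, mem_center_iff_not_nonScalar, not_not]; exact companion_nonScalar 0
  have hgg : proj g * proj g = 1 := by
    rw [← map_mul, proj_eq_one_iff, mem_center_iff_not_nonScalar, Matrix.SpecialLinearGroup.coe_mul,
      nonScalar_iff]
    simp [g, companion, Matrix.mul_fin_two]
  have h2g := h.two_group hna (CfsgLib.Invol.orderOf_two_of_mul_self hgg hne)
  rw [centralizer_proj_of_trace_eq h2 htr] at h2g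
  obtain ⟨k, hk⟩ := IsPGroup.iff_card.mp h2g
  have hc := card_map_proj (F := F) (H := Subgroup.normalizer (cent g : Set SL(2, F)))
    ((center_le_cent g).trans Subgroup.le_normalizer)
  rw [hk, card_normalizer_cent hreg] at hc
  have hgcd : Nat.gcd 2 (Nat.card F - 1) = 2 := by
    apply Nat.gcd_eq_left
    rcases hodd with ⟨m, hm⟩
    exact ⟨m, by omega⟩
  rw [hgcd] at hc
  have hq : Nat.card F = 2 ^ k + 1 ∨ Nat.card F + 1 = 2 ^ k := by
    have h1 : 1 < Nat.card F := Finite.one_lt_card
    rcases (cent_regular hreg).2 with e | e <;> rw [e] at hc <;> omega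
  obtain ⟨n, hp, hn⟩ := FiniteField.card F (ringChar F)
  have hp2 : ringChar F ≠ 2 := fun e => by
    rw [Nat.card_eq_fintype_card, hn, e, Nat.odd_pow_iff n.pos.ne'] at hodd
    exact absurd hodd (by decide)
  rw [Nat.card_eq_fintype_card, hn] at hq ⊢
  rcases prime_or_nine hp hp2 n.pos hq with h1 | h1
  · refine Or.inr (Or.inr ⟨by rw [h1, pow_one]; exact hp, k, ?_⟩)
    omega
  · exact Or.inr (Or.inl h1)

/-- A non-cyclic subgroup of a group with a cyclic 2-subgroup of index two contains its involution. -/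
theorem mem_of_noncyclic {K : Type*} [Group K] [Finite K] {C R H : Subgroup K} (hHC : H ≤ C)
    (hH : ¬ IsCyclic ↥H) [IsCyclic ↥R] (hRC : R ≤ C)
    (hmul : ∀ x ∈ C, ∀ y ∈ C, x ∉ R → y ∉ R → x * y ∈ R) (h2 : IsPGroup 2 ↥R)
    {c : K} (hcR : c ∈ R) (hc : orderOf c = 2) : c ∈ H := by
  haveI := Fact.mk Nat.prime_two
  by_cases hne : H ⊓ R = ⊥
  · exfalso
    apply hH
    obtain ⟨x, hxH, hxR⟩ : ∃ x ∈ H, x ∉ R := by
      by_contra hno
      push Not at hno
      exact hH (isCyclic_of_injective (Subgroup.inclusion (show H ≤ R from hno))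
        (Subgroup.inclusion_injective _))
    have key : ∀ y ∈ H, y = 1 ∨ y = x := by
      intro y hy
      have hone : ∀ z ∈ H, z ∈ R → z = 1 := fun z h1 h2 =>
        Subgroup.mem_bot.mp (hne ▸ Subgroup.mem_inf.mpr ⟨h1, h2⟩)
      by_cases hyR : y ∈ R
      · exact Or.inl (hone y hy hyR)
      · right
        have h1 := hone _ (H.mul_mem hxH hxH) (hmul x (hHC hxH) x (hHC hxH) hxR hxR)
        have h2 := hone _ (H.mul_mem hxH hy) (hmul x (hHC hxH) y (hHC hy) hxR hyR)
        exact mul_left_cancel (h2.trans h1.symm)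
    refine ⟨⟨⟨x, hxH⟩, fun y => ?_⟩⟩
    rcases key y y.2 with e | e
    · exact ⟨0, Subtype.ext (by simp [e])⟩
    · exact ⟨1, Subtype.ext (by simp [e])⟩
  · obtain ⟨⟨w, hw⟩, hw1⟩ := (H ⊓ R).ne_bot_iff_exists_ne_one.mp hne
    obtain ⟨k, hk⟩ := IsPGroup.iff_orderOf.mp h2 ⟨w, hw.2⟩
    rw [Subgroup.orderOf_mk] at hk
    have hk1 : k ≠ 0 := by
      rintro rfl
      exact hw1 (Subtype.ext (orderOf_eq_one_iff.mp hk))
    have hw2 : orderOf (w ^ (2 ^ (k - 1))) = 2 := by
      rw [orderOf_pow_of_dvd (by positivity) (by rw [hk]; exact pow_dvd_pow 2 (by omega)), hk,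
        Nat.pow_div (by omega) two_pos, show k - (k - 1) = 1 by omega, pow_one]
    have hu : w ^ (2 ^ (k - 1)) = c := by
      classical
      by_contra hne'
      haveI := Fintype.ofFinite R
      have h3 : 3 ≤ (Finset.univ.filter fun a : R => a ^ 2 = 1).card := by
        refine le_trans (le_of_eq ?_) (Finset.card_le_card
          (show ({1, ⟨w ^ (2 ^ (k - 1)), R.pow_mem hw.2 _⟩, ⟨c, hcR⟩} : Finset R) ⊆
            (Finset.univ.filter fun a : R => a ^ 2 = 1) from fun a ha => ?_))
        · rw [Finset.card_insert_of_notMem (by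
            simp [Subtype.ext_iff, Ne.symm (CfsgLib.Invol.ne_one_of_orderOf_two hw2),
              Ne.symm (CfsgLib.Invol.ne_one_of_orderOf_two hc)]),
            Finset.card_pair (by simp [Subtype.ext_iff, hne'])]
        · simp only [Finset.mem_insert, Finset.mem_singleton] at ha
          simp only [Finset.mem_filter, Finset.mem_univ, true_and]
          rcases ha with rfl | rfl | rfl
          · simp
          · exact Subtype.ext (by rw [Subgroup.coe_pow, pow_two]; exact CfsgLib.Invol.mul_self_of_orderOf_two hw2)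
          · exact Subtype.ext (by rw [Subgroup.coe_pow, pow_two]; exact CfsgLib.Invol.mul_self_of_orderOf_two hc)
      have := IsCyclic.card_pow_eq_one_le (α := R) (n := 2) two_pos
      omega
    exact hu ▸ H.pow_mem hw.1 _

/-- The backward direction. -/
theorem SC_of_goodQ (hq : GoodQ (Fintype.card F)) :
    SC (Matrix.ProjectiveSpecialLinearGroup (Fin 2) F) := by
  classical
  rw [← Nat.card_eq_fintype_card] at hq
  intro H hH c hc
  by_contra hcH
  have hc1 : c ≠ 1 := fun e => hcH (e ▸ H.one_mem)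
  have hHC : H ≤ Subgroup.centralizer ({c} : Set (Matrix.ProjectiveSpecialLinearGroup (Fin 2) F)) :=
    fun x hx => Subgroup.mem_centralizer_singleton_iff.mpr (Subgroup.mem_centralizer_iff.mp hc x hx)
  set d := Nat.gcd 2 (Nat.card F - 1) with hd
  obtain ⟨g, rfl⟩ := proj_surjective c
  have hns : NonScalar (g : Matrix (Fin 2) (Fin 2) F) := by
    rw [Ne, proj_eq_one_iff, mem_center_iff_not_nonScalar, not_not] at hc1; exact hc1
  have hmem : proj g ∈ (cent g).map proj := ⟨g, self_mem_cent g, rfl⟩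
  by_cases hreg : Regular g
  · by_cases htr : (g : Matrix (Fin 2) (Fin 2) F).trace ≠ 0 ∨ (2 : F) = 0
    · rw [centralizer_proj_of_trace_ne htr] at hHC
      haveI := (proj_cent_regular hreg).1
      exact hH (isCyclic_of_injective (Subgroup.inclusion hHC) (Subgroup.inclusion_injective _))
    push Not at htr
    obtain ⟨ht0, h2⟩ := htr
    rw [centralizer_proj_of_trace_eq h2 ht0] at hHC
    haveI := (proj_cent_regular hreg).1
    have hgg : proj g * proj g = 1 := by
      rw [← map_mul, proj_eq_one_iff, mem_center_iff_not_nonScalar,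
        Matrix.SpecialLinearGroup.coe_mul, cayley, g.det_coe, one_smul, ht0, zero_smul, zero_sub,
        nonScalar_iff]
      simp
    have ho : orderOf (proj g) = 2 := CfsgLib.Invol.orderOf_two_of_mul_self hgg hc1
    have hR := card_map_proj (center_le_cent g)
    have hev : 2 ∣ Nat.card ((cent g).map proj) := by
      have := Subgroup.orderOf_dvd_natCard _ hmem
      rwa [ho] at this
    have hodd : Odd (Nat.card F) := by
      obtain ⟨n, hp, hn⟩ := FiniteField.card F (ringChar F)
      rw [Nat.card_eq_fintype_card, hn]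
      refine (hp.odd_of_ne_two fun e => h2 ?_).pow
      haveI : CharP F 2 := ringChar.of_eq e
      exact CharTwo.two_eq_zero
    have hd2 : d = 2 := by
      apply Nat.gcd_eq_left
      rcases hodd with ⟨m, hm⟩
      exact ⟨m, by omega⟩
    rw [← hd, hd2] at hR
    obtain ⟨r, hr⟩ := hev
    have h4 : ∃ j : ℕ, Nat.card (cent g) = 2 ^ j := by
      rw [← hR, hr]
      have hcase : 2 * (2 * r) = Nat.card F - 1 ∨ 2 * (2 * r) = Nat.card F + 1 := by
        rw [← hr, hR]; exact (cent_regular hreg).2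
      rcases hq with h | h | ⟨-, k, h⟩
      · obtain ⟨m, hm⟩ := hodd; omega
      · exact ⟨3, by norm_num; omega⟩
      rcases k with _ | _ | k
      · rw [pow_zero] at h; obtain ⟨m, hm⟩ := hodd; omega
      · rw [zero_add, pow_one] at h; obtain ⟨m, hm⟩ := hodd
        exact ⟨2, by rw [show (2 : ℕ) ^ 2 = 4 from rfl]; have := Finite.one_lt_card (α := F); omega⟩
      · refine ⟨k + 1 + 1, ?_⟩
        rw [pow_succ, pow_succ] at h ⊢
        have := Nat.two_pow_pos k
        omega
    obtain ⟨j, hj⟩ := h4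
    have h2R : IsPGroup 2 ((cent g).map proj) := (IsPGroup.of_card (n := j) hj).map proj
    refine hcH (mem_of_noncyclic hHC hH
      (Subgroup.map_mono Subgroup.le_normalizer) (fun x hx y hy hxR hyR => ?_) h2R hmem ho)
    obtain ⟨a, ha, rfl⟩ := hx
    obtain ⟨b, hb, rfl⟩ := hy
    refine ⟨a * b, ?_, map_mul proj a b⟩
    have hinv : ∀ a ∈ Subgroup.normalizer (cent g : Set SL(2, F)), proj a ∉ (cent g).map proj →
        a * g * a⁻¹ = g⁻¹ := fun a ha hna =>
      ((mem_normalizer_cent_iff hreg).mp ha).resolve_left fun e => hna ⟨a, mem_cent_iff.mpr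
        (mul_inv_eq_iff_eq_mul.mp e).symm, rfl⟩
    rw [SetLike.mem_coe, mem_cent_iff]
    have e : a * b * g * (a * b)⁻¹ = g := by
      calc a * b * g * (a * b)⁻¹ = a * (b * g * b⁻¹) * a⁻¹ := by group
        _ = (a * g * a⁻¹)⁻¹ := by rw [hinv b hb hyR]; group
        _ = g := by rw [hinv a ha hxR, inv_inv]
    exact (mul_inv_eq_iff_eq_mul.mp e).symm
  · have htr : (g : Matrix (Fin 2) (Fin 2) F).trace ≠ 0 ∨ (2 : F) = 0 := by
      by_contra h
      push Not at h
      exact hreg (regular_of_trace_zero h.2 h.1)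
    rw [centralizer_proj_of_trace_ne htr] at hHC
    have hC := card_map_proj (center_le_cent g)
    rw [card_cent_unipotent hns hreg, ← hd, mul_comm (Nat.card F)] at hC
    have hCq : Nat.card ((cent g).map proj) = Nat.card F :=
      Nat.eq_of_mul_eq_mul_left (Nat.gcd_pos_of_pos_left _ two_pos) hC
    have hdvd := Subgroup.card_dvd_of_le hHC
    rw [hCq] at hdvd
    have hnp : ∀ {p : ℕ}, p.Prime → ¬ Nat.card H ∣ p := by
      intro p hp hd'
      rcases (Nat.dvd_prime hp).mp hd' with e | e
      · haveI := (Nat.card_eq_one_iff_unique.mp e).1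
        exact hH isCyclic_of_subsingleton
      · haveI := Fact.mk hp
        exact hH (isCyclic_of_prime_card e)
    have hfull : ∀ {p : ℕ}, p.Prime → Nat.card F = p ^ 2 → False := by
      intro p hp he
      rw [he] at hdvd
      obtain ⟨i, hi, hcard⟩ := (Nat.dvd_prime_pow hp).mp hdvd
      rcases Nat.lt_or_ge i 2 with hlt | hge
      · refine hnp hp ?_
        rw [hcard]
        calc p ^ i ∣ p ^ 1 := pow_dvd_pow p (by omega)
          _ = p := pow_one p
      · have := Subgroup.eq_of_le_of_card_ge hHC (le_of_eq (by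
          rw [hCq, he, hcard, show i = 2 by omega]))
        exact hcH (this ▸ hmem)
    rcases hq with h | h | ⟨h, -⟩
    · exact hfull Nat.prime_two (by rw [h]; rfl)
    · exact hfull Nat.prime_three (by rw [h]; rfl)
    · exact hnp h hdvd

end CfsgLib.NCSC
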