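import Cfsg.Agent.Lib.PGroup.SuzukiMaximalClass
import Cfsg.Agent.Lib.SmallTwo.WreathedAut
import Cfsg.Agent.Lib.Invol.Dihedral

/-!
Two-groups with a self-centralising four subgroup and their automorphisms of odd order.
-/

set_option autoImplicit false
set_option linter.style.haveILetI false

namespace CfsgLib.NCSC

variable {P : Type*} [Group P] [Finite P]

/-- The semidihedral presentation. -/
structure SD (n : ℕ) (a b : P) : Prop where
  four_le : 4 ≤ n
  card : Nat.card P = 2 ^ n
  oa : orderOf a = 2 ^ (n - 1)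
  ob : orderOf b = 2
  conj : b * a * b⁻¹ = a ^ (2 ^ (n - 2) - 1)

theorem index_zpowers {a : P} (h : 2 * orderOf a = Nat.card P) :
    (Subgroup.zpowers a).index = 2 := by
  have h1 := (Subgroup.zpowers a).card_mul_index
  rw [Nat.card_zpowers, ← h, mul_comm 2] at h1
  exact Nat.eq_of_mul_eq_mul_left (orderOf_pos a) h1

theorem SD.two_mul {n : ℕ} {a b : P} (h : SD n a b) : 2 * orderOf a = Nat.card P := by
  rw [h.oa, h.card, ← pow_succ']
  congr 1
  have := h.four_le
  omega

theorem SD.not_mem {n : ℕ} {a b : P} (h : SD n a b) : b ∉ Subgroup.zpowers a := by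
  intro hb
  obtain ⟨j, rfl⟩ := hb
  have e := h.conj
  rw [((Commute.refl a).zpow_left j).eq, mul_inv_cancel_right] at e
  have hpos : 4 ≤ 2 ^ (n - 2) := by
    calc 4 = 2 ^ 2 := rfl
      _ ≤ _ := Nat.pow_le_pow_right two_pos (by have := h.four_le; omega)
  have e2 : a ^ (2 ^ (n - 2) - 2) = 1 := by
    apply mul_right_cancel (b := a)
    rw [one_mul, ← pow_succ, show 2 ^ (n - 2) - 2 + 1 = 2 ^ (n - 2) - 1 by omega]
    exact e.symm
  have hle := Nat.le_of_dvd (by omega) (orderOf_dvd_of_pow_eq_one e2)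
  rw [h.oa, show n - 1 = n - 2 + 1 by have := h.four_le; omega, pow_succ] at hle
  omega

theorem SD.cases {n : ℕ} {a b : P} (h : SD n a b) (x : P) :
    (∃ i : ℤ, x = a ^ i) ∨ ∃ i : ℤ, x = a ^ i * b := by
  by_cases hx : x ∈ Subgroup.zpowers a
  · obtain ⟨i, rfl⟩ := hx
    exact Or.inl ⟨i, rfl⟩
  · right
    obtain ⟨i, hi⟩ : x * b⁻¹ ∈ Subgroup.zpowers a := by
      rw [Subgroup.mul_mem_iff_of_index_two (index_zpowers h.two_mul), inv_mem_iff]
      exact iff_of_false hx h.not_mem
    exact ⟨i, by rw [show a ^ i = x * b⁻¹ from hi, inv_mul_cancel_right]⟩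

theorem SD.sq_outside {n : ℕ} {a b : P} (h : SD n a b) (i : ℤ) :
    (a ^ i * b) * (a ^ i * b) = a ^ ((2 : ℤ) ^ (n - 2) * i) := by
  have hb : b⁻¹ = b := CfsgLib.Invol.inv_of_orderOf_two h.ob
  have e : b * a ^ i * b⁻¹ = (a ^ (2 ^ (n - 2) - 1)) ^ i := by rw [← conj_zpow, h.conj]
  have e' : (a ^ i * b) * (a ^ i * b) = a ^ i * (b * a ^ i * b⁻¹) := by rw [hb]; group
  have hpos : 1 ≤ 2 ^ (n - 2) := Nat.one_le_two_pow
  rw [e', e, ← zpow_natCast, ← zpow_mul, ← zpow_add]
  congr 1
  push_cast [hpos]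
  ring

/-- A cyclic subgroup of index two containing all elements of its order. -/
def HasTopCyclic (P : Type*) [Group P] : Prop :=
  ∃ a : P, 2 * orderOf a = Nat.card P ∧ ∀ x : P, orderOf x = orderOf a → x ∈ Subgroup.zpowers a

theorem SD.hasTopCyclic {n : ℕ} {a b : P} (h : SD n a b) : HasTopCyclic P := by
  refine ⟨a, h.two_mul, fun x hx => ?_⟩
  rcases h.cases x with ⟨i, rfl⟩ | ⟨i, rfl⟩
  · exact zpow_mem (Subgroup.mem_zpowers a) i
  exfalso
  have hn := h.four_le
  have h4 : (a ^ i * b) ^ 4 = 1 := by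
    rw [show 4 = 2 + 2 from rfl, pow_add, pow_two, h.sq_outside, ← zpow_add,
      ← orderOf_dvd_iff_zpow_eq_one, h.oa]
    refine ⟨i, ?_⟩
    rw [show n - 1 = n - 2 + 1 by omega, pow_succ]
    push_cast
    ring
  have hle := Nat.le_of_dvd (by norm_num) (orderOf_dvd_of_pow_eq_one h4)
  rw [hx, h.oa] at hle
  have : 8 ≤ 2 ^ (n - 1) := by
    calc 8 = 2 ^ 3 := rfl
      _ ≤ _ := Nat.pow_le_pow_right two_pos (by omega)
  omega

theorem hasTopCyclic_dihedral {m : ℕ} (hm : 3 ≤ m) (e : P ≃* DihedralGroup m) : HasTopCyclic P := by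
  haveI : NeZero m := ⟨by omega⟩
  refine ⟨e.symm (DihedralGroup.r 1), ?_, fun x hx => ?_⟩
  · rw [MulEquiv.orderOf_eq, DihedralGroup.orderOf_r_one, Nat.card_congr e.toEquiv,
      DihedralGroup.nat_card]
  · rw [MulEquiv.orderOf_eq, DihedralGroup.orderOf_r_one] at hx
    rcases hex : e x with i | i
    · refine Subgroup.mem_zpowers_iff.mpr ⟨(i.val : ℤ), ?_⟩
      rw [← map_zpow, zpow_natCast, DihedralGroup.r_one_pow, ZMod.natCast_zmod_val, ← hex,
        e.symm_apply_apply]
    · exfalso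
      rw [← MulEquiv.orderOf_eq e x, hex, DihedralGroup.orderOf_sr] at hx
      omega

/-- An automorphism of odd prime order fixes a 2-group with a top cyclic subgroup. -/
theorem fixed_of_hasTopCyclic (hP : IsPGroup 2 P) (h : HasTopCyclic P) (σ : MulAut P) {q : ℕ}
    (hq : Odd q) (hσ : σ ^ q = 1) : σ = 1 := by
  haveI := Fact.mk Nat.prime_two
  obtain ⟨a, ha, htop⟩ := h
  have hA : ∀ x ∈ Subgroup.zpowers a, σ x ∈ Subgroup.zpowers a := by
    rintro _ ⟨i, rfl⟩
    rw [map_zpow]
    exact zpow_mem (htop _ (MulEquiv.orderOf_eq σ a)) i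
  have hmem : σ a ∈ Subgroup.zpowers a := hA a (Subgroup.mem_zpowers a)
  obtain ⟨j, hj⟩ := hmem
  have hpow : ∀ (k : ℕ), (σ ^ k) a = a ^ (j ^ k) := by
    intro k
    induction k with
    | zero => simp
    | succ k IH => rw [pow_succ, MulAut.mul_apply, show σ a = a ^ j from hj.symm, map_zpow, IH,
        ← zpow_mul, pow_succ]
  obtain ⟨k, hk⟩ : ∃ k : ℕ, orderOf a = 2 ^ k := IsPGroup.iff_orderOf.mp hP a
  have hcast : ((j : ZMod (2 ^ k)) ^ q = 1) := by
    have h1 : a ^ (j ^ q) = a ^ (1 : ℤ) := by rw [← hpow, hσ, zpow_one]; rfl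
    rw [zpow_eq_zpow_iff_modEq, hk, ← ZMod.intCast_eq_intCast_iff] at h1
    push_cast at h1
    exact h1
  have hfa : σ a = a := by
    have hu : IsUnit (j : ZMod (2 ^ k)) := IsUnit.of_pow_eq_one hcast hq.pos.ne'
    haveI : NeZero (2 ^ k) := ⟨by positivity⟩
    have h1 : orderOf hu.unit ∣ q := orderOf_dvd_of_pow_eq_one (Units.ext (by
      rw [Units.val_pow_eq_pow_val, IsUnit.unit_spec, hcast, Units.val_one]))
    have h2 : orderOf hu.unit ∣ 2 ^ (k - 1) := by
      rcases Nat.eq_zero_or_pos k with rfl | hk0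
      · have := ZMod.subsingleton_iff.mpr (pow_zero 2)
        rw [Subsingleton.elim hu.unit 1, orderOf_one]
        exact one_dvd _
      · have h2' : orderOf hu.unit ∣ Nat.card (ZMod (2 ^ k))ˣ := orderOf_dvd_natCard _
        rwa [Nat.card_eq_fintype_card, ZMod.card_units_eq_totient,
          Nat.totient_prime_pow Nat.prime_two hk0, show 2 - 1 = 1 from rfl, mul_one] at h2'
    have h3 : orderOf hu.unit = 1 := Nat.eq_one_of_dvd_coprimes
      (Nat.Coprime.pow_right _ (Nat.coprime_two_right.mpr hq)) h1 h2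
    rw [orderOf_eq_one_iff, Units.ext_iff, IsUnit.unit_spec, Units.val_one] at h3
    rw [← show a ^ j = σ a from hj]
    conv_rhs => rw [← zpow_one a]
    rw [zpow_eq_zpow_iff_modEq, hk, ← ZMod.intCast_eq_intCast_iff, h3]
    simp
  have hfix : ∀ x ∈ Subgroup.zpowers a, σ x = x := by
    rintro _ ⟨i, rfl⟩; rw [map_zpow, hfa]
  ext b
  rw [MulAut.one_apply]
  by_cases hb : b ∈ Subgroup.zpowers a
  · exact hfix b hb
  have hσb : σ b ∉ Subgroup.zpowers a := fun hc => hb (by
    have := hfix _ hc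
    rwa [σ.injective this] at hc)
  have hc : σ b * b⁻¹ ∈ Subgroup.zpowers a := by
    rw [Subgroup.mul_mem_iff_of_index_two (index_zpowers ha), inv_mem_iff]
    exact iff_of_false hσb hb
  set c := σ b * b⁻¹ with hc'
  have hit : ∀ k : ℕ, (σ ^ k) b = c ^ k * b := by
    intro k
    induction k with
    | zero => simp
    | succ k IH => rw [pow_succ', MulAut.mul_apply, IH, map_mul, map_pow, hfix c hc, pow_succ,
        mul_assoc, hc', inv_mul_cancel_right]
  have hc1 : c ^ q = 1 := by
    have := hit q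
    rw [hσ, MulAut.one_apply] at this
    exact mul_right_cancel (a := c ^ q) (b := b) (by rw [one_mul]; exact this.symm)
  have : orderOf c = 1 := by
    obtain ⟨l, hl⟩ := IsPGroup.iff_orderOf.mp hP c
    refine Nat.eq_one_of_dvd_coprimes
      (Nat.Coprime.pow_right l (Nat.coprime_two_right.mpr hq)) (orderOf_dvd_of_pow_eq_one hc1) ?_
    rw [hl]
  rw [orderOf_eq_one_iff] at this
  exact mul_inv_eq_one.mp this

/-- A 2-group with a self-centralising four subgroup `⟨t, s⟩`, `t` central, and more than four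
elements, is dihedral or semidihedral. -/
theorem shape (hP : IsPGroup 2 P) {t s : P} (ht : orderOf t = 2) (hs : orderOf s = 2) (hts : t ≠ s)
    (htc : ∀ x : P, Commute x t)
    (hC : ∀ x : P, Commute x s → x = 1 ∨ x = t ∨ x = s ∨ x = t * s) :
    Nat.card P ≤ 4 ∨ (∃ n : ℕ, 3 ≤ n ∧ Nonempty (P ≃* DihedralGroup (2 ^ (n - 1)))) ∨
      ∃ (n : ℕ) (a b : P), SD n a b := by
  classical
  haveI := Fact.mk Nat.prime_two
  by_cases hle : Nat.card P ≤ 4
  · exact Or.inl hle
  right
  set V : Subgroup P := Subgroup.centralizer ({s} : Set P) with hV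
  have hVmem : ∀ x, x ∈ V ↔ x = 1 ∨ x = t ∨ x = s ∨ x = t * s := by
    intro x
    rw [hV, Subgroup.mem_centralizer_singleton_iff]
    refine ⟨fun h => hC x h, ?_⟩
    rintro (rfl | rfl | rfl | rfl)
    · simp
    · exact (htc s).symm.eq
    · rfl
    · exact ((htc s).symm.mul_left (Commute.refl s)).eq
  have ht1 := CfsgLib.Invol.ne_one_of_orderOf_two ht
  have hs1 := CfsgLib.Invol.ne_one_of_orderOf_two hs
  have htt := CfsgLib.Invol.mul_self_of_orderOf_two ht
  have hts1 : t * s ≠ 1 := fun h => hts (mul_left_cancel (a := t) (htt.trans h.symm))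
  have hVcard : Nat.card V = 4 := by
    have he : (V : Set P) = ↑({1, t, s, t * s} : Finset P) := by
      ext x; simp [hVmem]
    rw [← SetLike.coe_sort_coe, Nat.card_coe_set_eq, he, Set.ncard_coe_finset,
      Finset.card_insert_of_notMem (by simp [Ne.symm ht1, Ne.symm hs1, Ne.symm hts1]),
      Finset.card_insert_of_notMem (by simp [hts, hs1]),
      Finset.card_pair (by simp [ht1])]
  have hVlt : V < ⊤ := by
    rw [lt_top_iff_ne_top]
    intro h
    rw [h, Subgroup.card_top] at hVcard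
    omega
  haveI : Group.IsNilpotent P := hP.isNilpotent
  have hNlt : V < Subgroup.normalizer (V : Set P) := Group.normalizerCondition_of_isNilpotent V hVlt
  set N := Subgroup.normalizer (V : Set P) with hN
  obtain ⟨a, haN, haV⟩ := SetLike.exists_of_lt hNlt
  -- elements of `N` send `s` to `s` or `t * s`
  have himg : ∀ x ∈ N, x * s * x⁻¹ = s ∨ x * s * x⁻¹ = t * s := by
    intro x hx
    have hm : x * s * x⁻¹ ∈ V := (Subgroup.mem_normalizer_iff.mp hx s).mp ((hVmem s).mpr (by simp))
    rcases (hVmem _).mp hm with h | h | h | h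
    · exact absurd (conj_eq_one_iff.mp h) hs1
    · exfalso
      apply hts
      have : x * t * x⁻¹ = t := by rw [(htc x).eq, mul_inv_cancel_right]
      exact mul_left_cancel (mul_right_cancel (this.trans h.symm))
    · exact Or.inl h
    · exact Or.inr h
  have hfix : ∀ x : P, x * s * x⁻¹ = s → x ∈ V := fun x hx => by
    rw [hV, Subgroup.mem_centralizer_singleton_iff]
    exact mul_inv_eq_iff_eq_mul.mp hx
  have hN8 : Nat.card N = 8 := by
    have hidx : (V.subgroupOf N).index = 2 := by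
      rw [Subgroup.index_eq_two_iff']
      refine ⟨⟨a, haN⟩, fun b => ?_⟩
      rw [Subgroup.mem_subgroupOf, Subgroup.mem_subgroupOf, Subgroup.coe_mul]
      have ha2 : a * s * a⁻¹ = t * s :=
        (himg a haN).resolve_left fun h => haV (hfix a h)
      by_cases hbV : (b : P) ∈ V
      · exact Or.inr ⟨hbV, fun h => haV ((V.mul_mem_cancel_right hbV).mp h)⟩
      · have hb2 : (b : P) * s * (b : P)⁻¹ = t * s :=
          (himg b b.2).resolve_left fun h => hbV (hfix b h)
        refine Or.inl ⟨hfix _ ?_, hbV⟩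
        calc a * b * s * (a * b)⁻¹ = a * ((b : P) * s * (b : P)⁻¹) * a⁻¹ := by group
          _ = (a * t * a⁻¹) * (a * s * a⁻¹) := by rw [hb2]; group
          _ = t * (t * s) := by rw [ha2, (htc a).eq, mul_inv_cancel_right]
          _ = s := by rw [← mul_assoc, htt, one_mul]
    have h := (V.subgroupOf N).card_mul_index
    rw [hidx, Nat.card_congr (Subgroup.subgroupOfEquivOfLe hNlt.le).toEquiv, hVcard] at h
    omega
  have hNna : ¬ IsMulCommutative N := fun hc => haV (by
    have h := congrArg Subtype.val (mul_comm' (⟨a, haN⟩ : N) ⟨s, hNlt.le ((hVmem s).mpr (by simp))⟩)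
    rw [hV, Subgroup.mem_centralizer_singleton_iff]
    exact h)
  have hCN : Subgroup.centralizer (N : Set P) ≤ N := fun x hx => hNlt.le (by
    rw [hV, Subgroup.mem_centralizer_singleton_iff]
    exact (Subgroup.mem_centralizer_iff.mp hx s (hNlt.le ((hVmem s).mpr (by simp)))).symm)
  have h4 := CfsgLib.MaxClass.four_mul_card_commutator hP N hN8 hNna hCN
  obtain ⟨n, hn⟩ := IsPGroup.iff_card.mp hP
  have hn3 : 3 ≤ n := by
    by_contra h
    have : 2 ^ n ≤ 2 ^ 2 := Nat.pow_le_pow_right two_pos (by omega)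
    omega
  have hcomm : Nat.card (commutator P) = 2 ^ (n - 2) := by
    rw [hn] at h4
    have : 2 ^ n = 4 * 2 ^ (n - 2) := by
      rw [show 4 = 2 ^ 2 from rfl, ← pow_add]; congr 1; omega
    omega
  rcases CfsgLib.MaxClass.classify hn3 hn hcomm with h | ⟨⟨e⟩⟩ | ⟨hn4, a', b, ha', hb, hab⟩
  · exact Or.inl ⟨n, hn3, h⟩
  · exfalso
    haveI : NeZero (2 ^ (n - 2)) := ⟨by positivity⟩
    have key : ∀ x : P, orderOf x = 2 → e x = QuaternionGroup.a (2 ^ (n - 2) : ℕ) := by
      intro x hx
      have h2 : orderOf (e x) = 2 := by rw [MulEquiv.orderOf_eq, hx]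
      rcases hi : e x with i | i
      · rw [hi, QuaternionGroup.orderOf_a] at h2
        have hlt := ZMod.val_lt i
        have hd := Nat.gcd_dvd_left (2 * 2 ^ (n - 2)) i.val
        have hd' := Nat.gcd_dvd_right (2 * 2 ^ (n - 2)) i.val
        set g := Nat.gcd (2 * 2 ^ (n - 2)) i.val
        have hg : 2 * 2 ^ (n - 2) = g * 2 := by
          conv_lhs => rw [← Nat.div_mul_cancel hd, h2]
          ring
        obtain ⟨c, hc⟩ := hd'
        have hc1 : c = 1 := by
          rcases c with _ | _ | c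
          · exfalso
            have h0 : g = 2 * 2 ^ (n - 2) := by
              show Nat.gcd (2 * 2 ^ (n - 2)) i.val = _
              rw [show i.val = 0 by rw [hc, mul_zero], Nat.gcd_zero_right]
            have := Nat.two_pow_pos (n - 2)
            omega
          · rfl
          · exfalso
            have : g * 2 ≤ g * (c + 1 + 1) := Nat.mul_le_mul_left g (by omega)
            omega
        congr 1
        rw [← ZMod.natCast_zmod_val i, hc, hc1, mul_one]
        congr 1
        omega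
      · rw [hi, QuaternionGroup.orderOf_xa] at h2; omega
    exact hts (e.injective ((key t ht).trans (key s hs).symm))
  · exact Or.inr ⟨n, a', b, hn4, hn, ha', hb, hab⟩

end CfsgLib.NCSC
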